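import Mathlib
import Cfsg.Agent.Lib.Helper55.OOG.Defs

/-!
# OOG (S2413) package [WEYL]: `ρ_{e_i,t} ρ_{f_i,t} ρ_{e_i,t}` is a Weyl element.
-/

set_option autoImplicit false
open scoped Matrix

namespace Cfsg.Agent.Lib.Helper34.OOG

open Cfsg.Agent.Lib.Helper55.OOG

universe u

/-- **[WEYL]** -/
theorem pkgWeyl : PkgWeyl.{u} := by
  intro m F _ i σ τ hσ hτ
  have hσE : mat σ *ᵥ (E i : Vec m F) = E i := by
    rw [hσ (E i), B_E_E, B_E_T0, Q_T0]; module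
  have hσT : mat σ *ᵥ (T0 : Vec m F) = T0 - (2 : F) • E i := by
    rw [hσ T0, B_T0_E, B_T0_T0, Q_T0]; module
  have hσF : mat σ *ᵥ (Fv i : Vec m F) = Fv i + T0 - E i := by
    rw [hσ (Fv i), B_Fv_E, if_pos rfl, B_Fv_T0, Q_T0]; module
  have hτF : mat τ *ᵥ (Fv i : Vec m F) = Fv i := by
    rw [hτ (Fv i), B_Fv_Fv, B_Fv_T0, Q_T0]; module
  have hτT : mat τ *ᵥ (T0 : Vec m F) = T0 - (2 : F) • Fv i := by
    rw [hτ T0, B_T0_Fv, B_T0_T0, Q_T0]; module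
  have hτE : mat τ *ᵥ (E i : Vec m F) = E i + T0 - Fv i := by
    rw [hτ (E i), B_E_Fv, if_pos rfl, B_E_T0, Q_T0]; module
  refine ⟨?_, ?_, ?_, ?_⟩
  · rw [mul_act, mul_act, hσE, hτE]
    simp only [Matrix.mulVec_sub, Matrix.mulVec_add, hσE, hσT, hσF]
    module
  · rw [mul_act, mul_act, hσF]
    simp only [Matrix.mulVec_sub, Matrix.mulVec_add, hτF, hτT, hτE]
    simp only [Matrix.mulVec_sub, Matrix.mulVec_add, Matrix.mulVec_smul, hσE, hσT, hσF]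
    module
  · rw [mul_act, mul_act, hσT]
    simp only [Matrix.mulVec_sub, Matrix.mulVec_add, Matrix.mulVec_smul, hτF, hτT, hτE]
    simp only [Matrix.mulVec_sub, Matrix.mulVec_add, Matrix.mulVec_smul, hσE, hσT, hσF]
    module
  · intro j hji
    have hσEj : mat σ *ᵥ (E j : Vec m F) = E j := by
      rw [hσ (E j), B_E_E, B_E_T0, Q_T0]; module
    have hσFj : mat σ *ᵥ (Fv j : Vec m F) = Fv j := by
      rw [hσ (Fv j), B_Fv_E, if_neg hji, B_Fv_T0, Q_T0]; module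
    have hτEj : mat τ *ᵥ (E j : Vec m F) = E j := by
      rw [hτ (E j), B_E_Fv, if_neg hji, B_E_T0, Q_T0]; module
    have hτFj : mat τ *ᵥ (Fv j : Vec m F) = Fv j := by
      rw [hτ (Fv j), B_Fv_Fv, B_Fv_T0, Q_T0]; module
    constructor
    · rw [mul_act, mul_act, hσEj, hτEj, hσEj]
    · rw [mul_act, mul_act, hσFj, hτFj, hσFj]

end Cfsg.Agent.Lib.Helper34.OOG
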